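import Mathlib

/-!
# Beauville–Laszlo type gluing of points of a quasi-affine scheme (S15769)
-/

universe u

open AlgebraicGeometry CategoryTheory

namespace Groth.Agent.H8.BLGlue

section Alg

variable {A A' : Type u} [CommRing A] [CommRing A'] (φ : A →+* A') (t : A)

lemma algebraMap_eq_zero_iff (a : A) :
    algebraMap A (Localization.Away t) a = 0 ↔ ∃ m : ℕ, t ^ m * a = 0 := by
  rw [IsLocalization.map_eq_zero_iff (Submonoid.powers t)]
  constructor
  · rintro ⟨⟨_, m, rfl⟩, h⟩
    exact ⟨m, h⟩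
  · rintro ⟨m, h⟩
    exact ⟨⟨t ^ m, m, rfl⟩, h⟩

lemma awayMap_algebraMap (x : A) :
    Localization.awayMap φ t (algebraMap A (Localization.Away t) x) =
      algebraMap A' (Localization.Away (φ t)) (φ x) :=
  IsLocalization.map_eq _ _

lemma eq_zero_of
    (htor : ∀ a' : A', (∃ m : ℕ, φ t ^ m * a' = 0) →
      ∃! a : A, (∃ m : ℕ, t ^ m * a = 0) ∧ φ a = a')
    (a : A) (h1 : φ a = 0) (h2 : algebraMap A (Localization.Away t) a = 0) : a = 0 := by
  obtain ⟨m, hm⟩ := (algebraMap_eq_zero_iff t a).1 h2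
  obtain ⟨a₀, _, huniq⟩ := htor 0 ⟨0, by simp⟩
  rw [huniq a ⟨⟨m, hm⟩, h1⟩, huniq 0 ⟨⟨0, by simp⟩, map_zero φ⟩]

lemma exists_of_compat
    (hq : ∀ m : ℕ, Function.Injective
      (Ideal.quotientMap (Ideal.map φ (Ideal.span {t} ^ m)) φ Ideal.le_comap_map))
    (htor : ∀ a' : A', (∃ m : ℕ, φ t ^ m * a' = 0) →
      ∃! a : A, (∃ m : ℕ, t ^ m * a = 0) ∧ φ a = a')
    (a' : A') (b : Localization.Away t)
    (h : algebraMap A' (Localization.Away (φ t)) a' = Localization.awayMap φ t b) :
    ∃ a : A, φ a = a' ∧ algebraMap A (Localization.Away t) a = b := by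
  obtain ⟨n, c, hc⟩ := IsLocalization.Away.surj t b
  have key : algebraMap A' (Localization.Away (φ t)) (φ t ^ n * a' - φ c) = 0 := by
    rw [map_sub, map_mul, map_pow, h, sub_eq_zero]
    have h3 := congrArg (Localization.awayMap φ t) hc
    rw [map_mul, map_pow, awayMap_algebraMap, awayMap_algebraMap] at h3
    rw [mul_comm]
    exact h3
  obtain ⟨k, hk⟩ := (algebraMap_eq_zero_iff (φ t) _).1 key
  obtain ⟨e, ⟨⟨l, hl⟩, he⟩, -⟩ := htor _ ⟨k, hk⟩
  have hιe : algebraMap A (Localization.Away t) e = 0 :=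
    (algebraMap_eq_zero_iff t e).2 ⟨l, hl⟩
  have hφc₁ : φ (c + e) = φ t ^ n * a' := by
    rw [map_add, he]; ring
  have hc₁ : b * algebraMap A (Localization.Away t) t ^ n =
      algebraMap A (Localization.Away t) (c + e) := by
    rw [map_add, hιe, add_zero, hc]
  have hmem : c + e ∈ Ideal.span {t} ^ n := by
    have h0 : Ideal.quotientMap (Ideal.map φ (Ideal.span {t} ^ n)) φ Ideal.le_comap_map
        (Ideal.Quotient.mk _ (c + e)) = 0 := by
      rw [Ideal.quotientMap_mk, Ideal.Quotient.eq_zero_iff_mem, hφc₁]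
      refine Ideal.mul_mem_right _ _ ?_
      rw [← map_pow]
      exact Ideal.mem_map_of_mem φ (Ideal.pow_mem_pow (Ideal.mem_span_singleton_self t) n)
    have h1 := hq n (h0.trans (map_zero _).symm)
    exact Ideal.Quotient.eq_zero_iff_mem.1 h1
  rw [Ideal.span_singleton_pow, Ideal.mem_span_singleton'] at hmem
  obtain ⟨a₁, ha₁⟩ := hmem
  have htor2 : φ t ^ n * (φ a₁ - a') = 0 := by
    have : φ (a₁ * t ^ n) = φ t ^ n * a' := by rw [ha₁, hφc₁]
    rw [map_mul, map_pow] at this
    rw [mul_sub, ← this]; ring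
  obtain ⟨e₂, ⟨⟨l₂, hl₂⟩, he₂⟩, -⟩ := htor _ ⟨n, htor2⟩
  have hιe₂ : algebraMap A (Localization.Away t) e₂ = 0 :=
    (algebraMap_eq_zero_iff t e₂).2 ⟨l₂, hl₂⟩
  refine ⟨a₁ - e₂, by rw [map_sub, he₂]; ring, ?_⟩
  rw [map_sub, hιe₂, sub_zero]
  have hu : IsUnit (algebraMap A (Localization.Away t) t ^ n) :=
    (IsLocalization.Away.algebraMap_isUnit t).pow n
  apply hu.mul_left_injective
  show algebraMap A (Localization.Away t) a₁ * algebraMap A (Localization.Away t) t ^ n =
    b * algebraMap A (Localization.Away t) t ^ n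
  rw [hc₁, ← ha₁, map_mul, map_pow]

lemma exists_ringHom
    (hq : ∀ m : ℕ, Function.Injective
      (Ideal.quotientMap (Ideal.map φ (Ideal.span {t} ^ m)) φ Ideal.le_comap_map))
    (htor : ∀ a' : A', (∃ m : ℕ, φ t ^ m * a' = 0) →
      ∃! a : A, (∃ m : ℕ, t ^ m * a = 0) ∧ φ a = a')
    {Γ : Type u} [CommRing Γ] (ψ' : Γ →+* A') (ψt : Γ →+* Localization.Away t)
    (h : (algebraMap A' (Localization.Away (φ t))).comp ψ' =
      (Localization.awayMap φ t).comp ψt) :
    ∃ ψ : Γ →+* A, φ.comp ψ = ψ' ∧ (algebraMap A (Localization.Away t)).comp ψ = ψt := by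
  have hex : ∀ g, ∃ a : A, φ a = ψ' g ∧ algebraMap A (Localization.Away t) a = ψt g :=
    fun g => exists_of_compat φ t hq htor _ _ (RingHom.congr_fun h g)
  choose f hf1 hf2 using hex
  have huniq : ∀ a b : A, φ a = φ b →
      algebraMap A (Localization.Away t) a = algebraMap A (Localization.Away t) b → a = b :=
    fun a b h1 h2 => sub_eq_zero.1 (eq_zero_of φ t htor _ (by rw [map_sub, h1, sub_self])
      (by rw [map_sub, h2, sub_self]))
  refine ⟨{ toFun := f
            map_one' := huniq _ _ (by rw [hf1, map_one, map_one]) (by rw [hf2, map_one, map_one])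
            map_mul' := fun x y => huniq _ _ (by rw [hf1, map_mul, map_mul, hf1, hf1])
              (by rw [hf2, map_mul, map_mul, hf2, hf2])
            map_zero' := huniq _ _ (by rw [hf1, map_zero, map_zero])
              (by rw [hf2, map_zero, map_zero])
            map_add' := fun x y => huniq _ _ (by rw [hf1, map_add, map_add, hf1, hf1])
              (by rw [hf2, map_add, map_add, hf2, hf2]) }, RingHom.ext hf1, RingHom.ext hf2⟩

lemma exists_prime
    (hq1 : Function.Bijective
      (Ideal.quotientMap (Ideal.map φ (Ideal.span {t} ^ 1)) φ Ideal.le_comap_map))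
    (𝔭 : PrimeSpectrum A) :
    (∃ 𝔮 : PrimeSpectrum A', PrimeSpectrum.comap φ 𝔮 = 𝔭) ∨
      (∃ 𝔮 : PrimeSpectrum (Localization.Away t),
        PrimeSpectrum.comap (algebraMap A (Localization.Away t)) 𝔮 = 𝔭) := by
  by_cases ht : t ∈ 𝔭.asIdeal
  · left
    set I : Ideal A := Ideal.span {t} ^ 1 with hI
    have hIle : I ≤ 𝔭.asIdeal := by
      rw [hI, pow_one, Ideal.span_singleton_le_iff_mem]; exact ht
    set e := Ideal.quotientMap (Ideal.map φ I) φ Ideal.le_comap_map with he
    haveI hp1 : (𝔭.asIdeal.map (Ideal.Quotient.mk I)).IsPrime :=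
      Ideal.map_isPrime_of_surjective Ideal.Quotient.mk_surjective (by rwa [Ideal.mk_ker])
    haveI hp2 : ((𝔭.asIdeal.map (Ideal.Quotient.mk I)).map e).IsPrime :=
      Ideal.map_isPrime_of_surjective hq1.2
        (by rw [(RingHom.injective_iff_ker_eq_bot e).1 hq1.1]; exact bot_le)
    refine ⟨⟨(((𝔭.asIdeal.map (Ideal.Quotient.mk I)).map e).comap
      (Ideal.Quotient.mk (Ideal.map φ I))), inferInstance⟩, ?_⟩
    apply PrimeSpectrum.ext
    ext a
    show Ideal.Quotient.mk (Ideal.map φ I) (φ a) ∈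
      (𝔭.asIdeal.map (Ideal.Quotient.mk I)).map e ↔ a ∈ 𝔭.asIdeal
    rw [← Ideal.quotientMap_mk (f := φ) (H := Ideal.le_comap_map)]
    constructor
    · intro hmem
      obtain ⟨x, hx, hxe⟩ := (Ideal.mem_map_iff_of_surjective e hq1.2).1 hmem
      have hxa : x = Ideal.Quotient.mk I a := hq1.1 hxe
      rw [hxa] at hx
      obtain ⟨y, hy, hya⟩ :=
        (Ideal.mem_map_iff_of_surjective (Ideal.Quotient.mk I) Ideal.Quotient.mk_surjective).1 hx
      have : y - a ∈ I := by
        rw [← Ideal.Quotient.eq]; exact hya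
      have h2 : a = y - (y - a) := by ring
      rw [h2]
      exact Ideal.sub_mem _ hy (hIle this)
    · intro ha
      exact Ideal.mem_map_of_mem e (Ideal.mem_map_of_mem _ ha)
  · right
    have : 𝔭 ∈ Set.range (PrimeSpectrum.comap (algebraMap A (Localization.Away t))) := by
      rw [PrimeSpectrum.localization_away_comap_range (Localization.Away t) t]
      exact ht
    exact this

end Alg

section Sch

variable {A A' : Type u} [CommRing A] [CommRing A'] (φ : A →+* A') (t : A)

lemma spec_hom_ext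
    (htor : ∀ a' : A', (∃ m : ℕ, φ t ^ m * a' = 0) →
      ∃! a : A, (∃ m : ℕ, t ^ m * a = 0) ∧ φ a = a')
    {R : CommRingCat.{u}} (f g : Spec (CommRingCat.of A) ⟶ Spec R)
    (h1 : Spec.map (CommRingCat.ofHom φ) ≫ f = Spec.map (CommRingCat.ofHom φ) ≫ g)
    (h2 : Spec.map (CommRingCat.ofHom (algebraMap A (Localization.Away t))) ≫ f =
      Spec.map (CommRingCat.ofHom (algebraMap A (Localization.Away t))) ≫ g) : f = g := by
  obtain ⟨f', rfl⟩ := Spec.map_surjective f
  obtain ⟨g', rfl⟩ := Spec.map_surjective g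
  rw [← Spec.map_comp, ← Spec.map_comp] at h1 h2
  have e1 := Spec.map_injective h1
  have e2 := Spec.map_injective h2
  congr 1
  ext r
  apply sub_eq_zero.1
  apply eq_zero_of φ t htor
  · rw [map_sub, sub_eq_zero]
    exact congrArg (fun k => k.hom r) e1
  · rw [map_sub, sub_eq_zero]
    exact congrArg (fun k => k.hom r) e2

theorem main
    (hq : ∀ m : ℕ, Function.Bijective
      (Ideal.quotientMap (Ideal.map φ (Ideal.span {t} ^ m)) φ Ideal.le_comap_map))
    (htor : ∀ a' : A', (∃ m : ℕ, φ t ^ m * a' = 0) →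
      ∃! a : A, (∃ m : ℕ, t ^ m * a = 0) ∧ φ a = a')
    (X : Scheme.{u}) [X.IsQuasiAffine] (p : X ⟶ Spec (CommRingCat.of A)) :
    (∀ s₁ s₂ : Spec (CommRingCat.of A) ⟶ X, s₁ ≫ p = 𝟙 _ → s₂ ≫ p = 𝟙 _ →
        Spec.map (CommRingCat.ofHom φ) ≫ s₁ = Spec.map (CommRingCat.ofHom φ) ≫ s₂ →
        Spec.map (CommRingCat.ofHom (algebraMap A (Localization.Away t))) ≫ s₁ =
          Spec.map (CommRingCat.ofHom (algebraMap A (Localization.Away t))) ≫ s₂ →
        s₁ = s₂) ∧
    (∀ (x' : Spec (CommRingCat.of A') ⟶ X)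
        (xt : Spec (CommRingCat.of (Localization.Away t)) ⟶ X),
        x' ≫ p = Spec.map (CommRingCat.ofHom φ) →
        xt ≫ p = Spec.map (CommRingCat.ofHom (algebraMap A (Localization.Away t))) →
        Spec.map (CommRingCat.ofHom (algebraMap A' (Localization.Away (φ t)))) ≫ x' =
          Spec.map (CommRingCat.ofHom (Localization.awayMap φ t)) ≫ xt →
        ∃ s : Spec (CommRingCat.of A) ⟶ X, s ≫ p = 𝟙 _ ∧
          Spec.map (CommRingCat.ofHom φ) ≫ s = x' ∧
          Spec.map (CommRingCat.ofHom (algebraMap A (Localization.Away t))) ≫ s = xt) := by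
  constructor
  · intro s₁ s₂ _ _ h1 h2
    rw [← cancel_mono X.toSpecΓ]
    apply spec_hom_ext φ t htor
    · rw [← Category.assoc, h1, Category.assoc]
    · rw [← Category.assoc, h2, Category.assoc]
  · intro x' xt hx' hxt hcompat
    obtain ⟨ψ', hψ'⟩ := Spec.map_surjective (x' ≫ X.toSpecΓ)
    obtain ⟨ψt, hψt⟩ := Spec.map_surjective (xt ≫ X.toSpecΓ)
    have hc : (algebraMap A' (Localization.Away (φ t))).comp ψ'.hom =
        (Localization.awayMap φ t).comp ψt.hom := by
      have h3 : Spec.map (CommRingCat.ofHom (algebraMap A' (Localization.Away (φ t)))) ≫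
          Spec.map ψ' = Spec.map (CommRingCat.ofHom (Localization.awayMap φ t)) ≫
          Spec.map ψt := by
        rw [hψ', hψt, ← Category.assoc, hcompat, Category.assoc]
      rw [← Spec.map_comp, ← Spec.map_comp] at h3
      have h4 := Spec.map_injective h3
      exact congrArg CommRingCat.Hom.hom h4
    obtain ⟨ψ, hψ1, hψ2⟩ := exists_ringHom φ t (fun m => (hq m).1) htor ψ'.hom ψt.hom hc
    have hs1 : Spec.map (CommRingCat.ofHom φ) ≫ Spec.map (CommRingCat.ofHom ψ) =
        x' ≫ X.toSpecΓ := by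
      rw [← hψ', ← Spec.map_comp]
      congr 1
      ext r
      exact RingHom.congr_fun hψ1 r
    have hs2 : Spec.map (CommRingCat.ofHom (algebraMap A (Localization.Away t))) ≫
        Spec.map (CommRingCat.ofHom ψ) = xt ≫ X.toSpecΓ := by
      rw [← hψt, ← Spec.map_comp]
      congr 1
      ext r
      exact RingHom.congr_fun hψ2 r
    have hrange : Set.range (Spec.map (CommRingCat.ofHom ψ)).base ⊆
        Set.range X.toSpecΓ.base := by
      rintro _ ⟨z, rfl⟩
      rcases exists_prime φ t (hq 1) z with ⟨w, hw⟩ | ⟨w, hw⟩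
      · refine ⟨x'.base w, ?_⟩
        have h5 := congrArg (fun f => f.base w) hs1
        rw [← hw]
        exact h5.symm
      · refine ⟨xt.base w, ?_⟩
        have h5 := congrArg (fun f => f.base w) hs2
        rw [← hw]
        exact h5.symm
    have hl1 : Spec.map (CommRingCat.ofHom φ) ≫
        IsOpenImmersion.lift X.toSpecΓ (Spec.map (CommRingCat.ofHom ψ)) hrange = x' := by
      rw [← cancel_mono X.toSpecΓ, Category.assoc, IsOpenImmersion.lift_fac, hs1]
    have hl2 : Spec.map (CommRingCat.ofHom (algebraMap A (Localization.Away t))) ≫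
        IsOpenImmersion.lift X.toSpecΓ (Spec.map (CommRingCat.ofHom ψ)) hrange = xt := by
      rw [← cancel_mono X.toSpecΓ, Category.assoc, IsOpenImmersion.lift_fac, hs2]
    refine ⟨IsOpenImmersion.lift X.toSpecΓ (Spec.map (CommRingCat.ofHom ψ)) hrange, ?_, hl1, hl2⟩
    apply spec_hom_ext φ t htor
    · rw [← Category.assoc, hl1, hx', Category.comp_id]
    · rw [← Category.assoc, hl2, hxt, Category.comp_id]

end Sch

end Groth.Agent.H8.BLGlue
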